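import Cfsg.Agent.ZN.Defs
set_option linter.all false

/-!
# ZN-groups (S0518): intermediate data for the structure lemma

`FF T W V`: consequences of the structure theorem S0617 for a finite group `K` with Sylow 2-subgroup
`T`, `W = ⟨Ω₁(Z(T))^K⟩`.

`L0Data B L₀ Z₁ V`: the output of the Baumann argument.
-/

set_option autoImplicit false

namespace Cfsg.Agent.ZN

open Subgroup Cfsg

universe u

variable {K : Type u} [Group K]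

/-- Consequences of S0617. `J = thompsonSubgroup 2 K` is the normal subgroup of `K` generated by all
elementary abelian 2-subgroups of maximal order. -/
structure FF (T W : Subgroup K) {ι : Type} (V : ι → Subgroup K) : Prop where
  two : IsPGroup 2 T
  sylow : ¬ 2 ∣ T.index
  nonempty : Nonempty ι
  Wn : W.Normal
  Wcomm : ∀ x ∈ W, ∀ y ∈ W, x * y = y * x
  Wsq : ∀ x ∈ W, x ^ 2 = 1
  /-- `C_K(O₂(K)) ≤ O₂(K)` -/
  cQ : centralizer (pCore 2 K : Set K) ≤ pCore 2 K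
  /-- `W ≤ Z(O₂(K))` -/
  WQ : W ≤ pCore 2 K
  Wcent : pCore 2 K ≤ centralizer (W : Set K)
  /-- `C_T(W) = O₂(K)` -/
  cT : T ⊓ centralizer (W : Set K) = pCore 2 K
  /-- `C_J(W)` is a 2-group -/
  cJ : thompsonSubgroup 2 K ⊓ centralizer (W : Set K) ≤ pCore 2 K
  card : ∀ i, Nat.card (V i) = 4
  indep : iSupIndep (fun o : Option ι =>
    o.elim (W ⊓ centralizer (thompsonSubgroup 2 K : Set K)) V)
  sup : (W ⊓ centralizer (thompsonSubgroup 2 K : Set K)) ⊔ (⨆ i, V i) = W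
  perm : ∀ (g : K) (i : ι), ∃ j, (V i).map (MulAut.conj g).toMonoidHom = V j
  nrm : ∀ i, thompsonSubgroup 2 K ≤ normalizer ((V i : Subgroup K) : Set K)
  /-- elements `d i` of `J` acting as 3-cycles on `V i` and trivially on the other planes -/
  d : ∀ i, ∃ d ∈ thompsonSubgroup 2 K, (∃ v ∈ V i, d * v * d⁻¹ ≠ v) ∧
    (∀ v ∈ V i, d ^ 3 * v * (d ^ 3)⁻¹ = v) ∧ ∀ j, j ≠ i → ∀ v ∈ V j, d * v = v * d
  /-- elements `t i` of `J(T)` acting as transvections on `V i` and trivially on the other planes -/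
  t : ∀ i, ∃ t ∈ jj T, (∃ v ∈ V i, t * v * t⁻¹ ≠ v) ∧ ∀ j, j ≠ i → ∀ v ∈ V j, t * v = v * t
  /-- S0619 -/
  comm_le : ⁅zj (pCore 2 K), thompsonSubgroup 2 K⁆ ≤ W
  /-- some elementary abelian subgroup of maximal order lies in `O₂(K)` -/
  maxQ : ∃ A ∈ maxElementaryAbelianSubgroups 2 K, A ≤ pCore 2 K

/-- Output of the Baumann argument: `L₀ = ⟨B^K⟩`, `Y = Z₁ × ∏ V i = ⟨Ω₁(Z(B))^{L₀}⟩`. -/
structure L0Data (B L₀ Z₁ : Subgroup K) {ι : Type} (V : ι → Subgroup K) : Prop where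
  two : IsPGroup 2 B
  nonempty : Nonempty ι
  normal : L₀.Normal
  le : B ≤ L₀
  /-- Frattini -/
  gen : L₀ ⊔ normalizer (B : Set K) = ⊤
  cent : Z₁ ≤ centralizer (L₀ : Set K)
  Ycomm : ∀ x ∈ Z₁ ⊔ ⨆ i, V i, ∀ y ∈ Z₁ ⊔ ⨆ i, V i, x * y = y * x
  Ysq : ∀ x ∈ Z₁ ⊔ ⨆ i, V i, x ^ 2 = 1
  card : ∀ i, Nat.card (V i) = 4
  nrm : ∀ i, L₀ ≤ normalizer ((V i : Subgroup K) : Set K)
  indep : iSupIndep (fun o : Option ι => o.elim Z₁ V)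
  zcB : zc B = Z₁ ⊔ ⨆ i, (V i ⊓ zc B)
  cardx : ∀ i, Nat.card ↥(V i ⊓ zc B) = 2
  /-- `C_{L₀}(Y) ≤ B` -/
  cY : L₀ ⊓ centralizer ((Z₁ ⊔ ⨆ i, V i : Subgroup K) : Set K) ≤ B
  /-- `C_{L₀}(O₂(L₀)) ≤ O₂(L₀)`; here `O₂(L₀) = C_{L₀}(Y)` -/
  cO : L₀ ⊓ centralizer ((L₀ ⊓ centralizer ((Z₁ ⊔ ⨆ i, V i : Subgroup K) : Set K) :
    Subgroup K) : Set K) ≤ L₀ ⊓ centralizer ((Z₁ ⊔ ⨆ i, V i : Subgroup K) : Set K)
  d : ∀ i, ∃ d ∈ L₀, (∃ v ∈ V i, d * v * d⁻¹ ≠ v) ∧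
    (∀ v ∈ V i, d ^ 3 * v * (d ^ 3)⁻¹ = v) ∧ ∀ j, j ≠ i → ∀ v ∈ V j, d * v = v * d
  t : ∀ i, ∃ t ∈ jj B, (∃ v ∈ V i, t * v * t⁻¹ ≠ v) ∧ ∀ j, j ≠ i → ∀ v ∈ V j, t * v = v * t
  /-- some largest elementary abelian 2-subgroup of `K` lies in `C_{L₀}(Y)` (so
  `J(U) ≤ J(B)` whenever `C_{L₀}(Y) ≤ U ≤ B`, see `ThompsonJ.thompsonSubgroupOf_eq_sSup`) -/
  maxY : ∃ A ∈ maxElementaryAbelianSubgroups 2 K,
    A ≤ L₀ ⊓ centralizer ((Z₁ ⊔ ⨆ i, V i : Subgroup K) : Set K)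

end Cfsg.Agent.ZN
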