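import Cfsg.Agent.ZN.ChoiceBase
set_option linter.all false

/-!
# S0518, part [C]: situations `Sit N T` and the dichotomy
-/

set_option autoImplicit false

namespace Cfsg.Agent.ZN.ChoiceSit

open Subgroup Cfsg Cfsg.Agent.ZN Cfsg.Agent.ZN.ChoiceBase

universe u

variable {G : Type u} [Group G]

/-! ### Sylow 2-subgroups of subgroups, external form -/

/-- `T` is a maximal 2-subgroup of `X`. -/
def Syl (T X : Subgroup G) : Prop :=
  T ≤ X ∧ IsPGroup 2 T ∧ ∀ Q : Subgroup G, Q ≤ X → IsPGroup 2 Q → T ≤ Q → Q = T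

theorem syl_iff {T X : Subgroup G} :
    Syl T X ↔ ∃ S : Sylow 2 X, (S : Subgroup X).map X.subtype = T :=
  Cfsg.Agent.Blocks.SylowIn.exists_sylow_map_eq_iff.symm

theorem exists_syl {T X : Subgroup G} (hT : IsPGroup 2 T) (hTX : T ≤ X) :
    ∃ S, Syl S X ∧ T ≤ S := by
  obtain ⟨S, hS⟩ := Cfsg.Agent.PLocal.ConjFunctor.exists_sylow_of_le hT hTX
  exact ⟨_, syl_iff.2 ⟨S, rfl⟩, hS⟩

theorem syl_conj [Finite G] {S T X : Subgroup G} (hS : Syl S X) (hT : Syl T X) :
    ∃ x ∈ X, cj x S = T := by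
  have : Fact (Nat.Prime 2) := ⟨Nat.prime_two⟩
  exact Cfsg.Agent.Blocks.SylowIn.exists_conj_of_sylow_map_eq (syl_iff.1 hS) (syl_iff.1 hT)

theorem syl_not_dvd [Finite G] {T X : Subgroup G} (hT : Syl T X) : ¬ 2 ∣ T.relIndex X := by
  have : Fact (Nat.Prime 2) := ⟨Nat.prime_two⟩
  obtain ⟨S, rfl⟩ := syl_iff.1 hT
  have h1 := S.not_dvd_index
  rwa [Subgroup.relIndex, Subgroup.subgroupOf,
    Subgroup.comap_map_eq_self_of_injective X.subtype_injective]

theorem o2_le (X : Subgroup G) : o2 X ≤ X := Subgroup.map_subtype_le _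

theorem isPGroup_pCore [Finite G] (p : ℕ) [Fact p.Prime] : IsPGroup p (pCore p G) := by
  obtain ⟨P⟩ : Nonempty (Sylow p G) := inferInstance
  refine P.isPGroup'.to_le (sSup_le ?_)
  rintro N ⟨hN, hp⟩
  have := hN
  obtain ⟨Q, hQ⟩ := hp.exists_le_sylow
  obtain ⟨g, hg⟩ := MulAction.exists_smul_eq G Q P
  intro x hx
  rw [← hg, Sylow.coe_subgroup_smul]
  refine (Subgroup.mem_smul_pointwise_iff_exists _ _ _).2 ⟨g⁻¹ * x * g, ?_, ?_⟩
  · apply hQ
    have := hN.conj_mem x hx g⁻¹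
    simpa using this
  · simp only [MulAut.smul_def, MulAut.conj_apply]
    group

theorem isPGroup_o2 [Finite G] (X : Subgroup G) : IsPGroup 2 (o2 X) := by
  have : Fact (Nat.Prime 2) := ⟨Nat.prime_two⟩
  exact (isPGroup_pCore (G := X) 2).map _

theorem le_o2 [Finite G] {U X : Subgroup G} (hU : IsPGroup 2 U) (hUX : U ≤ X)
    (hn : X ≤ normalizer (U : Set G)) : U ≤ o2 X := by
  have h1 : U.subgroupOf X ≤ pCore 2 X := by
    refine le_sSup ⟨?_, hU.comap_of_injective _ X.subtype_injective⟩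
    exact (Subgroup.normal_subgroupOf_iff_le_normalizer hUX).2 hn
  have h2 : (U.subgroupOf X).map X.subtype = U := by
    rw [Subgroup.subgroupOf_map_subtype, inf_eq_left.2 hUX]
  rw [← h2]
  exact Subgroup.map_mono h1

theorem le_normalizer_o2 (X : Subgroup G) : X ≤ normalizer ((o2 X : Subgroup G) : Set G) := by
  intro x hx
  have hn : (pCore 2 X).Normal := by
    rw [pCore]
    exact Subgroup.sSup_normal _ fun N hN => hN.1
  rw [Subgroup.mem_normalizer_iff]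
  intro h
  constructor
  · rintro ⟨y, hy, rfl⟩
    exact ⟨(⟨x, hx⟩ : X) * y * (⟨x, hx⟩ : X)⁻¹, hn.conj_mem y hy _, rfl⟩
  · rintro ⟨y, hy, hxy⟩
    refine ⟨(⟨x, hx⟩ : X)⁻¹ * y * (⟨x, hx⟩ : X), ?_, ?_⟩
    · have := hn.conj_mem y hy (⟨x, hx⟩ : X)⁻¹
      rwa [inv_inv] at this
    · have hxy' : (y : G) = x * h * x⁻¹ := hxy
      change x⁻¹ * (y : G) * x = h
      rw [hxy']
      group

theorem o2_le_syl [Finite G] {T X : Subgroup G} (hT : Syl T X) : o2 X ≤ T := by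
  have : Fact (Nat.Prime 2) := ⟨Nat.prime_two⟩
  have h1 : IsPGroup 2 (T ⊔ o2 X : Subgroup G) := by
    refine IsPGroup.to_sup_of_normal_right' hT.2.1 (isPGroup_o2 X) ?_
    exact hT.1.trans (le_normalizer_o2 X)
  have h2 := hT.2.2 (T ⊔ o2 X) (sup_le hT.1 (o2_le X)) h1 le_sup_left
  rw [← h2]
  exact le_sup_right

/-- In a group of characteristic 2 type `C_X(O₂(X)) ≤ O₂(X)` for 2-local `X`. -/
theorem self_cent (hL : IsCharacteristicTwoType G) {X : Subgroup G} (hX : IsTwoLocal X) :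
    X ⊓ centralizer ((o2 X : Subgroup G) : Set G) ≤ o2 X := by
  obtain ⟨U, hU, hne, rfl⟩ := hX
  have h := hL.2 U hU hne
  intro x hx'
  have hx := hx'.1
  have hc := mem_centralizer_iff.1 hx'.2
  exact ⟨⟨x, hx⟩, h (mem_centralizer_iff.2 fun y hy => Subtype.ext (hc y ⟨y, hy, rfl⟩)), rfl⟩

/-- For `T` Sylow in the 2-local subgroup `X` and `S ≥ T` Sylow in `G`: `Ω₁Z(S) ≤ T`. -/
theorem zc_le_syl [Finite G] (hL : IsCharacteristicTwoType G) {X T S : Subgroup G}
    (hX : IsTwoLocal X) (hT : Syl T X) (hTS : T ≤ S) : zc S ≤ T := by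
  have h1 : o2 X ≤ S := (o2_le_syl hT).trans hTS
  intro x hx
  have hx' := mem_zc.1 hx
  have hcent : x ∈ centralizer ((o2 X : Subgroup G) : Set G) := by
    rw [mem_centralizer_iff]
    exact fun y hy => hx'.2.2 y (h1 hy)
  have hxX : x ∈ X := by
    obtain ⟨U, hU, hne, rfl⟩ := hX
    have hUX : U ≤ o2 (normalizer (U : Set G)) := le_o2 hU le_normalizer le_rfl
    have : x ∈ centralizer (U : Set G) := by
      rw [mem_centralizer_iff]
      exact fun y hy => hx'.2.2 y (h1 (hUX hy))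
    exact centralizer_le_normalizer _ this
  exact o2_le_syl hT (self_cent hL hX ⟨hxX, hcent⟩)

/-- The hypothesis on `C_X(Ω₁Z(T))` for `T` Sylow in a 2-local subgroup `X`. -/
theorem cent_zc_le [Finite G] (hL : IsCharacteristicTwoType G)
    (hZ : ∀ S : Sylow 2 G,
      centralizer (zc (S : Subgroup G) : Set G) ≤ normalizer ((S : Subgroup G) : Set G))
    {X T : Subgroup G} (hX : IsTwoLocal X) (hT : Syl T X) :
    X ⊓ centralizer (zc T : Set G) ≤ normalizer (T : Set G) := by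
  obtain ⟨S, hS⟩ := hT.2.1.exists_le_sylow
  have h1 : zc (S : Subgroup G) ≤ T := zc_le_syl hL hX hT hS
  have h2 : zc (S : Subgroup G) ≤ zc T := by
    intro x hx
    have hx' := mem_zc.1 hx
    exact mem_zc.2 ⟨h1 hx, hx'.2.1, fun y hy => hx'.2.2 y (hS hy)⟩
  have h3 : (S : Subgroup G) ⊓ X = T :=
    hT.2.2 _ inf_le_right (S.isPGroup'.to_le inf_le_left) (le_inf hS hT.1)
  rintro x ⟨hxX, hxc⟩
  have h4 : x ∈ normalizer ((S : Subgroup G) : Set G) := hZ S (centralizer_le h2 hxc)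
  rw [mem_normalizer_iff_cj] at h4 ⊢
  rw [← h3, cj_inf, h4]
  congr 1
  exact cj_eq_of_mem_normalizer (le_normalizer hxX)

/-! ### Blocks -/

theorem not_le_normalizer_of_blk [Finite G] {B L : Subgroup G} (h : IsBlk B L) :
    ¬ L ≤ normalizer (B : Set G) := by
  intro hc
  have h1 := le_o2 h.two h.le hc
  have h2 := h.o2_index
  rw [Subgroup.relIndex_eq_one.2 h1] at h2
  omega

theorem not_le_normalizer_jj_of_blk [Finite G] {B L : Subgroup G} (h : IsBlk B L) :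
    ¬ L ≤ normalizer ((jj B : Subgroup G) : Set G) := by
  intro hc
  exact h.not_jj_le (le_o2 (h.two.to_le (jj_le B)) ((jj_le B).trans h.le) hc)

theorem zc_le_zl (B L : Subgroup G) : zc B ≤ zl B L := by
  have h : (zc B).map (MulAut.conj ((1 : L) : G)).toMonoidHom = zc B := cj_one _
  calc zc B = (zc B).map (MulAut.conj ((1 : L) : G)).toMonoidHom := h.symm
    _ ≤ zl B L := le_iSup (fun g : L => (zc B).map (MulAut.conj (g : G)).toMonoidHom) 1

theorem zc_le (B : Subgroup G) : zc B ≤ B := fun _ hx => (mem_zc.1 hx).1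

theorem zl_le {B L : Subgroup G} (h : B ≤ L) : zl B L ≤ L := by
  refine iSup_le fun g => ?_
  rintro _ ⟨x, hx, rfl⟩
  exact L.mul_mem (L.mul_mem g.2 (h (zc_le B hx))) (L.inv_mem g.2)

theorem zc_le_o2 {B L : Subgroup G} (h : IsBlk B L) : zc B ≤ o2 L := by
  refine (zc_le_zl B L).trans ?_
  rw [← h.cent_zl]
  refine le_inf (zl_le h.le) ?_
  intro x hx
  rw [mem_centralizer_iff]
  exact fun y hy => h.zl_comm y hy x hx

theorem o2_cj (g : G) (L : Subgroup G) : o2 (cj g L) = cj g (o2 L) := pCore_cj g L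

/-! ### Situations -/

/-- The common situation of contexts (I) and (II). -/
structure Sit (N T : Subgroup G) : Prop where
  two : IsPGroup 2 T
  ne : T ≠ ⊥
  norm : normalizer ((jj T : Subgroup G) : Set G) ≤ N
  key : ∀ X, IsTwoLocal X → bau T ≤ X → ¬ X ≤ N → ∀ T' : Subgroup G, IsPGroup 2 T' →
    bau T ≤ T' → T' ≤ X → jj T' = jj T ∧ bau T' = bau T

/-- The statement of the structure lemma for the ambient group `G`. -/
def StrLemma (G : Type u) [Group G] : Prop :=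
  ∀ X T : Subgroup G, Group.IsSolvable ↥X →
    Subgroup.centralizer (pCore 2 ↥X : Set ↥X) ≤ pCore 2 ↥X → IsPGroup 2 T → T ≤ X →
    ¬ 2 ∣ T.relIndex X → X ⊓ Subgroup.centralizer (zc T : Set G) ≤ normalizer (T : Set G) →
    ¬ X ≤ normalizer (jj T : Set G) → ∃ 𝓛 : Set (Subgroup G), StrData X (bau T) 𝓛

/-- The field `str` of `Ctx`. -/
def Str (N B : Subgroup G) : Prop :=
  ∀ X : Subgroup G, IsTwoLocal X → B ≤ X → ¬ X ≤ N →
    (∃ 𝓛 : Set (Subgroup G), StrData X B 𝓛) ∧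
      ∀ T : Subgroup G, IsPGroup 2 T → B ≤ T → T ≤ X → T ⊓ centralizer (zc B : Set G) = B

theorem Sit.str [Finite G] (hL : IsCharacteristicTwoType G)
    (hN : ∀ N : Subgroup G, IsTwoLocal N → Group.IsSolvable N)
    (hZ : ∀ S : Sylow 2 G,
      centralizer (zc (S : Subgroup G) : Set G) ≤ normalizer ((S : Subgroup G) : Set G))
    (hA : StrLemma G) {N T : Subgroup G} (h : Sit N T) : Str N (bau T) := by
  intro X hX hBX hXN
  constructor
  · obtain ⟨T', hT', hB⟩ := exists_syl (h.two.to_le (bau_le T)) hBX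
    obtain ⟨hj, hb⟩ := h.key X hX hBX hXN T' hT'.2.1 hB hT'.1
    have hc : Subgroup.centralizer (pCore 2 ↥X : Set ↥X) ≤ pCore 2 ↥X := by
      obtain ⟨U, hU, hne, rfl⟩ := hX
      exact hL.2 U hU hne
    have hJ : ¬ X ≤ normalizer (jj T' : Set G) := by
      rw [hj]
      exact fun hc' => hXN (hc'.trans h.norm)
    have := hA X T' (hN X hX) hc hT'.2.1 hT'.1 (syl_not_dvd hT') (cent_zc_le hL hZ hX hT') hJ
    rwa [hb] at this
  · intro T' hT' hBT' hT'X
    obtain ⟨hj, hb⟩ := h.key X hX hBX hXN T' hT' hBT' hT'X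
    rw [zc_bau, ← zj_congr hj]
    exact hb

theorem Sit.bau_ne [Finite G] {N T : Subgroup G} (h : Sit N T) : bau T ≠ ⊥ := by
  intro hb
  have h1 : jj T = ⊥ := le_bot_iff.1 ((jj_le_bau T).trans hb.le)
  have : Fact (Nat.Prime 2) := ⟨Nat.prime_two⟩
  have h2 : 2 ∣ Nat.card T := by
    have := h.two.card_eq_or_dvd
    rcases this with h3 | h3
    · exact absurd ((Subgroup.card_eq_one).1 h3) h.ne
    · exact h3
  have h3 := Cfsg.Agent.PLocal.ThompsonJ.thompsonSubgroup_ne_bot (G := T) h2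
  apply h3
  have h4 : (thompsonSubgroup 2 T).map T.subtype = ⊥ := h1
  rwa [Subgroup.map_eq_bot_iff_of_injective _ T.subtype_injective] at h4

theorem Sit.jj_ne [Finite G] {N T : Subgroup G} (h : Sit N T) : jj T ≠ ⊥ := by
  intro h1
  have : Fact (Nat.Prime 2) := ⟨Nat.prime_two⟩
  have h2 : 2 ∣ Nat.card T := by
    have := h.two.card_eq_or_dvd
    rcases this with h3 | h3
    · exact absurd ((Subgroup.card_eq_one).1 h3) h.ne
    · exact h3
  have h3 := Cfsg.Agent.PLocal.ThompsonJ.thompsonSubgroup_ne_bot (G := T) h2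
  apply h3
  have h4 : (thompsonSubgroup 2 T).map T.subtype = ⊥ := h1
  rwa [Subgroup.map_eq_bot_iff_of_injective _ T.subtype_injective] at h4

theorem Sit.normalizer_bau_le [Finite G] {N T : Subgroup G} (h : Sit N T) :
    normalizer ((bau T : Subgroup G) : Set G) ≤ N := by
  refine le_trans ?_ h.norm
  have := normalizer_le_jj (bau T)
  rwa [jj_bau] at this

/-- A nontrivial 2-group has nontrivial `Ω₁Z`. -/
theorem zc_ne_bot [Finite G] {B : Subgroup G} (hB : IsPGroup 2 B) (hne : B ≠ ⊥) : zc B ≠ ⊥ := by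
  have : Fact (Nat.Prime 2) := ⟨Nat.prime_two⟩
  have : Nontrivial B := (Subgroup.nontrivial_iff_ne_bot B).2 hne
  have h1 : Nontrivial (Subgroup.center B) := hB.center_nontrivial
  have h2 : 2 ∣ Nat.card (Subgroup.center B) := by
    rcases (hB.to_subgroup (Subgroup.center B)).card_eq_or_dvd with h3 | h3
    · exact absurd h3 (Finite.one_lt_card.ne')
    · exact h3
  obtain ⟨x, hx⟩ := exists_prime_orderOf_dvd_card' 2 h2
  intro hz
  have hx1 : ((x : B) : G) ∈ zc B := by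
    rw [mem_zc]
    refine ⟨(x : B).2, ?_, ?_⟩
    · have h4 : x ^ 2 = 1 := by rw [← hx]; exact pow_orderOf_eq_one x
      have h5 := congrArg (fun y : Subgroup.center B => ((y : B) : G)) h4
      simpa using h5
    · intro y hy
      have h4 := Subgroup.mem_center_iff.1 x.2 ⟨y, hy⟩
      exact congrArg (fun z : B => (z : G)) h4
  rw [hz, Subgroup.mem_bot] at hx1
  have : x = 1 := Subtype.ext (Subtype.ext hx1)
  rw [this, orderOf_one] at hx
  omega

/-! ### The family of blocks -/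

/-- The blocks over `B` not contained in `N` (defined through their index). -/
def EE (N B : Subgroup G) : Set (Subgroup G) :=
  {L | B ≤ L ∧ B.relIndex L = 3 ∧ ¬ L ≤ normalizer (B : Set G) ∧ ¬ L ≤ N ∧
    ∃ X, IsTwoLocal X ∧ L ≤ X}

theorem cj_mem_EE [Finite G] {N B : Subgroup G} (hnorm : normalizer (B : Set G) ≤ N) {g : G}
    (hg : g ∈ normalizer (B : Set G)) {L : Subgroup G} (hL : L ∈ EE N B) : cj g L ∈ EE N B := by
  have hgB : cj g B = B := cj_eq_of_mem_normalizer hg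
  have hgB' : cj g⁻¹ B = B := cj_eq_of_mem_normalizer (inv_mem hg)
  obtain ⟨h1, h2, h3, h4, X, h5, h6⟩ := hL
  refine ⟨?_, ?_, ?_, ?_, cj g X, isTwoLocal_cj g h5, cj_mono g h6⟩
  · calc B = cj g B := hgB.symm
      _ ≤ cj g L := cj_mono g h1
  · rw [← h2]
    conv_lhs => rw [← hgB]
    exact Subgroup.relIndex_map_map_of_injective B L (MulAut.conj g).injective
  · intro hc
    apply h3
    rw [cj_le_iff, cj_normalizer, hgB'] at hc
    exact hc
  · intro hc
    apply h4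
    rw [cj_le_iff] at hc
    have : cj g⁻¹ N = N := cj_eq_of_mem_normalizer (le_normalizer (inv_mem (hnorm hg)))
    rwa [this] at hc

theorem mem_of_mem_EE {N B X L : Subgroup G} {𝓛 : Set (Subgroup G)} (h : StrData X B 𝓛)
    (hL : L ∈ EE N B) (hLX : L ≤ X) : L ∈ 𝓛 :=
  h.all L hL.1 hLX hL.2.1 hL.2.2.1

theorem blk_of_mem_EE {N B L : Subgroup G} (hstr : Str N B) (hL : L ∈ EE N B) : IsBlk B L := by
  obtain ⟨X, hX, hLX⟩ := hL.2.2.2.2
  obtain ⟨⟨𝓛, h𝓛⟩, -⟩ := hstr X hX (hL.1.trans hLX) (fun hc => hL.2.2.2.1 (hLX.trans hc))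
  exact h𝓛.blk L (mem_of_mem_EE h𝓛 hL hLX)

theorem mem_EE_of_mem [Finite G] {N B X L : Subgroup G} {𝓛 : Set (Subgroup G)}
    (h : StrData X B 𝓛) (hX : IsTwoLocal X) (hL : L ∈ 𝓛) (hLN : ¬ L ≤ N) : L ∈ EE N B :=
  ⟨(h.blk L hL).le, (h.blk L hL).index, not_le_normalizer_of_blk (h.blk L hL), hLN, X, hX, h.le L hL⟩

/-- The dichotomy: an amalgam pair, or a nontrivial subgroup `R` of `B` normalized by everything. -/
theorem dich [Finite G] {N B : Subgroup G} (hstr : Str N B) (hB : IsPGroup 2 B) (hne : B ≠ ⊥)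
    (hnorm : normalizer (B : Set G) ≤ N) :
    (∃ P ∈ EE N B, ∃ Q ∈ EE N B, ∀ U : Subgroup G, U ≤ B → P ≤ normalizer (U : Set G) →
      Q ≤ normalizer (U : Set G) → U = ⊥) ∨
    ∃ R : Subgroup G, R ≤ B ∧ R ≠ ⊥ ∧ normalizer (B : Set G) ≤ normalizer (R : Set G) ∧
      ∀ L ∈ EE N B, L ≤ normalizer (R : Set G) := by
  by_cases hcase : ∃ P ∈ EE N B, ∃ Q ∈ EE N B, ∀ U : Subgroup G, U ≤ B →
      P ≤ normalizer (U : Set G) → Q ≤ normalizer (U : Set G) → U = ⊥
  · exact Or.inl hcase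
  right
  push Not at hcase
  have hinter : ∀ L ∈ EE N B, ∀ L' ∈ EE N B,
      L ≤ normalizer ((o2 L ⊓ o2 L' : Subgroup G) : Set G) := by
    intro L hL L' hL'
    obtain ⟨U, hUB, hLU, hL'U, hU⟩ := hcase L hL L' hL'
    have hX : IsTwoLocal (normalizer (U : Set G)) := ⟨U, hB.to_le hUB, hU, rfl⟩
    obtain ⟨⟨𝓛, h𝓛⟩, -⟩ := hstr _ hX (hL.1.trans hLU) (fun hc => hL.2.2.2.1 (hLU.trans hc))
    exact h𝓛.inter L (mem_of_mem_EE h𝓛 hL hLU) L' (mem_of_mem_EE h𝓛 hL' hL'U)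
  let R : Subgroup G := B ⊓ ⨅ L ∈ EE N B, o2 L
  have hRmem : ∀ x, x ∈ R ↔ x ∈ B ∧ ∀ L ∈ EE N B, x ∈ o2 L := by
    intro x
    simp only [R, mem_inf, mem_iInf]
  have hzR : zc B ≤ R := by
    intro x hx
    rw [hRmem]
    exact ⟨zc_le B hx, fun L hL => zc_le_o2 (blk_of_mem_EE hstr hL) hx⟩
  refine ⟨R, inf_le_left, fun h0 => zc_ne_bot hB hne (le_bot_iff.1 (hzR.trans h0.le)), ?_, ?_⟩
  · intro g hg
    apply mem_normalizer_of_cj_le
    intro x hx
    rw [mem_cj, hRmem] at hx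
    rw [hRmem]
    constructor
    · have : x ∈ cj g B := mem_cj.2 hx.1
      rwa [cj_eq_of_mem_normalizer hg] at this
    · intro L hL
      have h1 := hx.2 _ (cj_mem_EE hnorm (inv_mem hg) hL)
      rw [o2_cj, mem_cj, inv_inv] at h1
      have : g * (g⁻¹ * x * g) * g⁻¹ = x := by group
      rwa [this] at h1
  · intro L hL g hg
    apply mem_normalizer_of_cj_le
    intro x hx
    rw [mem_cj, hRmem] at hx
    rw [hRmem]
    have key : ∀ L' ∈ EE N B, x ∈ o2 L ⊓ o2 L' := by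
      intro L' hL'
      have h1 : g ∈ normalizer ((o2 L ⊓ o2 L' : Subgroup G) : Set G) := hinter L hL L' hL' hg
      have h2 : x ∈ cj g (o2 L ⊓ o2 L') := mem_cj.2 ⟨hx.2 L hL, hx.2 L' hL'⟩
      rwa [cj_eq_of_mem_normalizer h1] at h2
    exact ⟨(blk_of_mem_EE hstr hL).o2_le (key L hL).1, fun L' hL' => (key L' hL').2⟩

/-- The dichotomy in a situation. -/
theorem Sit.dich [Finite G] (hL : IsCharacteristicTwoType G)
    (hN : ∀ N : Subgroup G, IsTwoLocal N → Group.IsSolvable N)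
    (hZ : ∀ S : Sylow 2 G,
      centralizer (zc (S : Subgroup G) : Set G) ≤ normalizer ((S : Subgroup G) : Set G))
    (hA : StrLemma G) {N T : Subgroup G} (h : Sit N T)
    (halt : N ≤ normalizer (jj (bau T) : Set G) ∨
      ∃ x ∈ N, x ∉ bau T ∧ x ∈ normalizer (bau T : Set G) ∧ IsPGroup 2 ↥(bau T ⊔ zpowers x)) :
    (∃ P Q : Subgroup G, Ctx N (bau T) P Q) ∨
    ∃ R : Subgroup G, R ≤ bau T ∧ R ≠ ⊥ ∧
      normalizer (bau T : Set G) ≤ normalizer (R : Set G) ∧
      ∀ L ∈ EE N (bau T), L ≤ normalizer (R : Set G) := by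
  have hstr := h.str hL hN hZ hA
  rcases ChoiceSit.dich hstr (h.two.to_le (bau_le T)) h.bau_ne h.normalizer_bau_le with
    ⟨P, hP, Q, hQ, hc⟩ | hR
  · exact Or.inl ⟨P, Q, ⟨blk_of_mem_EE hstr hP, blk_of_mem_EE hstr hQ, hc, hP.2.2.2.1,
      hQ.2.2.2.1, hstr, halt⟩⟩
  · exact Or.inr hR

end Cfsg.Agent.ZN.ChoiceSit
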