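import Cfsg.Agent.ZN.Defs
import Cfsg.Agent.Blocks.SylowIn
import Cfsg.Agent.PLocal.ConjFunctor
import Mathlib.GroupTheory.Sylow
import Mathlib.GroupTheory.Nilpotent
import Mathlib.Data.Prod.Lex
import Mathlib.Tactic.Group
set_option linter.all false

/-!
# S0518, part [C]: base file

External Thompson and Baumann subgroups: conjugation, monotonicity, and the lexicographic key
`(m(T), |J(T)|, |B(T)|, |T|)`.
-/

set_option autoImplicit false

namespace Cfsg.Agent.ZN.ChoiceBase

open Subgroup Cfsg Cfsg.Agent.PLocal.ThompsonJ Cfsg.Agent.ZN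

universe u

variable {G : Type u} [Group G]

/-- Conjugation of subgroups. -/
abbrev cj (g : G) (H : Subgroup G) : Subgroup G := H.map (MulAut.conj g).toMonoidHom

theorem mem_cj {g x : G} {H : Subgroup G} : x ∈ cj g H ↔ g⁻¹ * x * g ∈ H := by
  constructor
  · rintro ⟨y, hy, rfl⟩
    have : g⁻¹ * ((MulAut.conj g).toMonoidHom y) * g = y := by
      simp only [MulEquiv.toMonoidHom_eq_coe, MonoidHom.coe_coe, MulAut.conj_apply]
      group
    rw [this]
    exact hy
  · intro h
    refine ⟨g⁻¹ * x * g, h, ?_⟩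
    simp only [MulEquiv.toMonoidHom_eq_coe, MonoidHom.coe_coe, MulAut.conj_apply]
    group

theorem cj_mono (g : G) {H K : Subgroup G} (h : H ≤ K) : cj g H ≤ cj g K := Subgroup.map_mono h

theorem cj_one (H : Subgroup G) : cj 1 H = H := by
  ext x; rw [mem_cj]; simp

theorem cj_cj (g h : G) (H : Subgroup G) : cj g (cj h H) = cj (g * h) H := by
  ext x
  rw [mem_cj, mem_cj, mem_cj]
  have : h⁻¹ * (g⁻¹ * x * g) * h = (g * h)⁻¹ * x * (g * h) := by group
  rw [this]

theorem cj_inv_cj (g : G) (H : Subgroup G) : cj g⁻¹ (cj g H) = H := by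
  rw [cj_cj, inv_mul_cancel, cj_one]

theorem cj_cj_inv (g : G) (H : Subgroup G) : cj g (cj g⁻¹ H) = H := by
  rw [cj_cj, mul_inv_cancel, cj_one]

theorem cj_le_iff {g : G} {H K : Subgroup G} : cj g H ≤ K ↔ H ≤ cj g⁻¹ K := by
  constructor
  · intro h
    have := cj_mono g⁻¹ h
    rwa [cj_inv_cj] at this
  · intro h
    have := cj_mono g h
    rwa [cj_cj_inv] at this

theorem card_cj (g : G) (H : Subgroup G) : Nat.card (cj g H) = Nat.card H :=
  card_map_injective H (MulAut.conj g).injective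

theorem mem_normalizer_iff_cj {g : G} {H : Subgroup G} :
    g ∈ normalizer (H : Set G) ↔ cj g H = H :=
  Subgroup.mem_normalizer_iff_map_conj_eq

theorem cj_eq_of_mem_normalizer {g : G} {H : Subgroup G} (h : g ∈ normalizer (H : Set G)) :
    cj g H = H := mem_normalizer_iff_cj.1 h

theorem mem_normalizer_of_cj_le [Finite G] {g : G} {H : Subgroup G} (h : cj g H ≤ H) :
    g ∈ normalizer (H : Set G) := by
  rw [mem_normalizer_iff_cj]
  exact Subgroup.eq_of_le_of_card_ge h (card_cj g H).ge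

theorem cj_inf (g : G) (H K : Subgroup G) : cj g (H ⊓ K) = cj g H ⊓ cj g K := by
  ext x
  rw [mem_cj, mem_inf, mem_inf, mem_cj, mem_cj]

theorem cj_normalizer (g : G) (H : Subgroup G) :
    cj g (normalizer (H : Set G)) = normalizer ((cj g H : Subgroup G) : Set G) := by
  ext x
  rw [mem_cj, mem_normalizer_iff_cj, mem_normalizer_iff_cj]
  constructor
  · intro h
    have := congrArg (cj g) h
    rw [cj_cj] at this
    have e : g * (g⁻¹ * x * g) = x * g := by group
    rw [e, ← cj_cj] at this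
    exact this
  · intro h
    have := congrArg (cj g⁻¹) h
    rw [cj_cj, cj_cj, cj_inv_cj] at this
    exact this

theorem cj_centralizer (g : G) (H : Subgroup G) :
    cj g (centralizer (H : Set G)) = centralizer ((cj g H : Subgroup G) : Set G) := by
  ext x
  rw [mem_cj, mem_centralizer_iff, mem_centralizer_iff]
  constructor
  · intro h y hy
    have h1 := h (g⁻¹ * y * g) (mem_cj.1 hy)
    have e1 : g⁻¹ * y * g * (g⁻¹ * x * g) = g⁻¹ * (y * x) * g := by group
    have e2 : g⁻¹ * x * g * (g⁻¹ * y * g) = g⁻¹ * (x * y) * g := by group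
    rw [e1, e2] at h1
    exact mul_left_cancel (mul_right_cancel h1)
  · intro h y hy
    have hy' : g * y * g⁻¹ ∈ cj g H := by
      rw [mem_cj]
      have : g⁻¹ * (g * y * g⁻¹) * g = y := by group
      rw [this]
      exact hy
    have h1 := h (g * y * g⁻¹) hy'
    have e1 : g⁻¹ * (g * y * g⁻¹ * x) * g = y * (g⁻¹ * x * g) := by group
    have e2 : g⁻¹ * (x * (g * y * g⁻¹)) * g = (g⁻¹ * x * g) * y := by group
    rw [← e1, ← e2, h1]

theorem isPGroup_cj {p : ℕ} (g : G) {H : Subgroup G} (h : IsPGroup p H) : IsPGroup p (cj g H) :=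
  h.map _

theorem isTwoLocal_cj (g : G) {X : Subgroup G} (h : IsTwoLocal X) : IsTwoLocal (cj g X) := by
  obtain ⟨T, hT, hne, rfl⟩ := h
  refine ⟨cj g T, isPGroup_cj g hT, ?_, cj_normalizer g T⟩
  intro h0
  apply hne
  have := congrArg (cj g⁻¹) h0
  rw [cj_inv_cj] at this
  rw [this]
  exact Subgroup.map_bot _

/-- The elementary abelian subgroups of `T` of largest order, as subgroups of `G`. -/
def AA (T : Subgroup G) : Set (Subgroup G) :=
  {A | IsElementaryAbelian 2 A ∧ A ≤ T ∧
    ∀ B : Subgroup G, IsElementaryAbelian 2 B → B ≤ T → Nat.card B ≤ Nat.card A}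

theorem AA_nonempty [Finite G] (T : Subgroup G) : (AA T).Nonempty := by
  classical
  obtain ⟨A, hA, hmax⟩ := Set.exists_max_image {A : Subgroup G | IsElementaryAbelian 2 A ∧ A ≤ T}
    (fun A => Nat.card A) (Set.toFinite _) ⟨⊥, isElementaryAbelian_bot G 2, bot_le⟩
  exact ⟨A, hA.1, hA.2, fun B hB hBT => hmax B ⟨hB, hBT⟩⟩

theorem subgroupOf_mem_max {T A : Subgroup G} (hA : A ∈ AA T) :
    A.subgroupOf T ∈ maxElementaryAbelianSubgroups 2 T := by
  refine ⟨isElementaryAbelian_comap hA.1 T.subtype_injective, fun B hB => ?_⟩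
  have h1 := hA.2.2 (B.map T.subtype) (isElementaryAbelian_map hB _) (Subgroup.map_subtype_le B)
  rw [card_map_injective _ T.subtype_injective] at h1
  rwa [Nat.card_congr (Subgroup.subgroupOfEquivOfLe hA.2.1).toEquiv]

theorem map_mem_AA {T : Subgroup G} {A : Subgroup T} (hA : A ∈ maxElementaryAbelianSubgroups 2 T) :
    A.map T.subtype ∈ AA T := by
  refine ⟨isElementaryAbelian_map hA.1 _, Subgroup.map_subtype_le A, fun B hB hBT => ?_⟩
  rw [card_map_injective _ T.subtype_injective]
  have h1 := hA.2 (B.subgroupOf T) (isElementaryAbelian_comap hB T.subtype_injective)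
  rwa [Nat.card_congr (Subgroup.subgroupOfEquivOfLe hBT).toEquiv] at h1

theorem jj_eq (T : Subgroup G) : jj T = sSup (AA T) := by
  apply le_antisymm
  · change (thompsonSubgroup 2 T).map T.subtype ≤ _
    rw [Subgroup.map_le_iff_le_comap]
    refine thompsonSubgroup_le fun A hA => ?_
    rw [← Subgroup.map_le_iff_le_comap]
    exact le_sSup (map_mem_AA hA)
  · refine sSup_le fun A hA => ?_
    have h1 : (A.subgroupOf T).map T.subtype = A := by
      rw [Subgroup.subgroupOf_map_subtype, inf_eq_left.2 hA.2.1]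
    rw [← h1]
    exact Subgroup.map_mono (le_thompsonSubgroup (subgroupOf_mem_max hA))

/-- The largest order of an elementary abelian subgroup of `T`. -/
noncomputable def mm (T : Subgroup G) : ℕ := sSup ((fun A : Subgroup G => Nat.card A) '' AA T)

theorem mm_eq {T A : Subgroup G} (hA : A ∈ AA T) : mm T = Nat.card A := by
  have h : (fun A : Subgroup G => Nat.card A) '' AA T = {Nat.card A} := by
    ext n
    constructor
    · rintro ⟨B, hB, rfl⟩
      exact le_antisymm (hA.2.2 B hB.1 hB.2.1) (hB.2.2 A hA.1 hA.2.1)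
    · rintro rfl
      exact ⟨A, hA, rfl⟩
  rw [mm, h, csSup_singleton]

theorem card_le_mm [Finite G] {T A : Subgroup G} (hA : IsElementaryAbelian 2 A) (hT : A ≤ T) :
    Nat.card A ≤ mm T := by
  obtain ⟨B, hB⟩ := AA_nonempty T
  rw [mm_eq hB]
  exact hB.2.2 A hA hT

theorem mem_AA_iff [Finite G] {T A : Subgroup G} :
    A ∈ AA T ↔ IsElementaryAbelian 2 A ∧ A ≤ T ∧ mm T ≤ Nat.card A := by
  constructor
  · intro h
    exact ⟨h.1, h.2.1, (mm_eq h).le⟩
  · rintro ⟨h1, h2, h3⟩
    exact ⟨h1, h2, fun B hB hBT => (card_le_mm hB hBT).trans h3⟩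

theorem mm_mono [Finite G] {T U : Subgroup G} (h : T ≤ U) : mm T ≤ mm U := by
  obtain ⟨A, hA⟩ := AA_nonempty T
  rw [mm_eq hA]
  exact card_le_mm hA.1 (hA.2.1.trans h)

theorem jj_mono [Finite G] {T U : Subgroup G} (h : T ≤ U) (hm : mm U ≤ mm T) : jj T ≤ jj U := by
  rw [jj_eq, jj_eq]
  refine sSup_le_sSup fun A hA => ?_
  rw [mem_AA_iff] at hA ⊢
  exact ⟨hA.1, hA.2.1.trans h, hm.trans hA.2.2⟩

theorem jj_le (T : Subgroup G) : jj T ≤ T := thompsonSubgroupOf_le_self 2 T

theorem le_jj {T A : Subgroup G} (hA : A ∈ AA T) : A ≤ jj T := by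
  rw [jj_eq]
  exact le_sSup hA

theorem mm_eq_of_jj_le [Finite G] {T U : Subgroup G} (h1 : jj U ≤ T) (h2 : T ≤ U) :
    mm T = mm U := by
  refine le_antisymm (mm_mono h2) ?_
  obtain ⟨A, hA⟩ := AA_nonempty U
  rw [mm_eq hA]
  exact card_le_mm hA.1 ((le_jj hA).trans h1)

theorem jj_eq_of_jj_le [Finite G] {T U : Subgroup G} (h1 : jj U ≤ T) (h2 : T ≤ U) :
    jj T = jj U := by
  have hm := mm_eq_of_jj_le h1 h2
  refine le_antisymm (jj_mono h2 hm.ge) ?_
  rw [jj_eq, jj_eq]
  refine sSup_le fun A hA => le_sSup ?_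
  rw [mem_AA_iff]
  exact ⟨hA.1, (le_jj hA).trans h1, by rw [hm]; exact (mm_eq hA).le⟩

theorem mem_zj {T : Subgroup G} {x : G} :
    x ∈ zj T ↔ x ∈ jj T ∧ x ^ 2 = 1 ∧ ∀ y ∈ jj T, y * x = x * y := by
  have hset : {x : G | x ∈ centerThompsonOf 2 T ∧ x ^ 2 = 1} =
      (({ carrier := {x : G | x ∈ jj T ∧ x ^ 2 = 1 ∧ ∀ y ∈ jj T, y * x = x * y}
          mul_mem' := by
            rintro a b ⟨ha, ha2, hac⟩ ⟨hb, hb2, hbc⟩
            refine ⟨mul_mem ha hb, ?_, fun y hy => ?_⟩
            · have hab : a * b = b * a := hbc a ha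
              rw [pow_two] at ha2 hb2 ⊢
              calc a * b * (a * b) = a * (b * a) * b := by group
                _ = a * (a * b) * b := by rw [hab]
                _ = (a * a) * (b * b) := by group
                _ = 1 := by rw [ha2, hb2, one_mul]
            · rw [← mul_assoc, hac y hy, mul_assoc, hbc y hy, mul_assoc]
          one_mem' := ⟨one_mem _, one_pow _, fun y _ => by rw [mul_one, one_mul]⟩
          inv_mem' := by
            rintro a ⟨ha, ha2, hac⟩
            have : a⁻¹ = a := by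
              rw [pow_two] at ha2
              exact inv_eq_of_mul_eq_one_left ha2
            rw [Set.mem_ofPred_eq, this]
            exact ⟨ha, ha2, hac⟩ } : Subgroup G) : Set G) := by
    ext x
    constructor
    · rintro ⟨⟨h1, h2⟩, h3⟩
      exact ⟨h1, h3, fun y hy => mem_centralizer_iff.1 h2 y hy⟩
    · rintro ⟨h1, h2, h3⟩
      exact ⟨⟨h1, mem_centralizer_iff.2 fun y hy => h3 y hy⟩, h2⟩
  rw [zj, omegaOne, hset, Subgroup.closure_eq]
  rfl

theorem mem_zc {T : Subgroup G} {x : G} :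
    x ∈ zc T ↔ x ∈ T ∧ x ^ 2 = 1 ∧ ∀ y ∈ T, y * x = x * y := by
  have hset : {x : G | x ∈ T ⊓ centralizer (T : Set G) ∧ x ^ 2 = 1} =
      (({ carrier := {x : G | x ∈ T ∧ x ^ 2 = 1 ∧ ∀ y ∈ T, y * x = x * y}
          mul_mem' := by
            rintro a b ⟨ha, ha2, hac⟩ ⟨hb, hb2, hbc⟩
            refine ⟨mul_mem ha hb, ?_, fun y hy => ?_⟩
            · have hab : a * b = b * a := hbc a ha
              rw [pow_two] at ha2 hb2 ⊢
              calc a * b * (a * b) = a * (b * a) * b := by group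
                _ = a * (a * b) * b := by rw [hab]
                _ = (a * a) * (b * b) := by group
                _ = 1 := by rw [ha2, hb2, one_mul]
            · rw [← mul_assoc, hac y hy, mul_assoc, hbc y hy, mul_assoc]
          one_mem' := ⟨one_mem _, one_pow _, fun y _ => by rw [mul_one, one_mul]⟩
          inv_mem' := by
            rintro a ⟨ha, ha2, hac⟩
            have : a⁻¹ = a := by
              rw [pow_two] at ha2
              exact inv_eq_of_mul_eq_one_left ha2
            rw [Set.mem_ofPred_eq, this]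
            exact ⟨ha, ha2, hac⟩ } : Subgroup G) : Set G) := by
    ext x
    constructor
    · rintro ⟨⟨h1, h2⟩, h3⟩
      exact ⟨h1, h3, fun y hy => mem_centralizer_iff.1 h2 y hy⟩
    · rintro ⟨h1, h2, h3⟩
      exact ⟨⟨h1, mem_centralizer_iff.2 fun y hy => h3 y hy⟩, h2⟩
  rw [zc, omegaOne, hset, Subgroup.closure_eq]
  rfl

theorem zj_congr {T U : Subgroup G} (h : jj T = jj U) : zj T = zj U := by
  ext x
  rw [mem_zj, mem_zj, h]

theorem mem_bau {T : Subgroup G} {x : G} :
    x ∈ bau T ↔ x ∈ T ∧ ∀ y ∈ zj T, y * x = x * y := by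
  rw [bau, mem_inf, mem_centralizer_iff]
  rfl

theorem bau_le (T : Subgroup G) : bau T ≤ T := inf_le_left

theorem jj_le_bau (T : Subgroup G) : jj T ≤ bau T := by
  intro x hx
  rw [mem_bau]
  exact ⟨jj_le T hx, fun y hy => ((mem_zj.1 hy).2.2 x hx).symm⟩

theorem jj_bau [Finite G] (T : Subgroup G) : jj (bau T) = jj T :=
  jj_eq_of_jj_le (jj_le_bau T) (bau_le T)

theorem mm_bau [Finite G] (T : Subgroup G) : mm (bau T) = mm T :=
  mm_eq_of_jj_le (jj_le_bau T) (bau_le T)

/-- An involution of `T` centralizing `J(T)` lies in `J(T)`. -/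
theorem mem_jj_of_comm [Finite G] {T : Subgroup G} {x : G} (hx : x ∈ T) (hx2 : x ^ 2 = 1)
    (hc : ∀ y ∈ jj T, y * x = x * y) : x ∈ jj T := by
  obtain ⟨A, hA⟩ := AA_nonempty T
  have hcomm : ∀ a ∈ A, a * x = x * a := fun a ha => hc a (le_jj hA ha)
  have hAc : ∀ a ∈ A, ∀ b ∈ A, a * b = b * a := fun a ha b hb =>
    (isElementaryAbelian_iff.1 hA.1).1 a ha b hb
  have hA2 : ∀ a ∈ A, a ^ 2 = 1 := fun a ha => hA.1.2 a ha
  let C : Subgroup G := A ⊔ zpowers x
  have hle : C ≤ centralizer (C : Set G) := by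
    have h1 : A ≤ centralizer (C : Set G) := by
      rw [Subgroup.le_centralizer_iff]
      refine sup_le ?_ ?_
      · intro a ha
        rw [mem_centralizer_iff]
        exact fun b hb => hAc b hb a ha
      · rw [zpowers_le, mem_centralizer_iff]
        exact fun b hb => hcomm b hb
    have h2 : zpowers x ≤ centralizer (C : Set G) := by
      rw [Subgroup.le_centralizer_iff]
      refine sup_le ?_ ?_
      · intro a ha
        rw [mem_centralizer_iff]
        intro b hb
        obtain ⟨n, rfl⟩ := mem_zpowers_iff.1 hb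
        exact ((show Commute a x from hcomm a ha).zpow_right n).eq.symm
      · intro a ha
        rw [mem_centralizer_iff]
        intro b hb
        obtain ⟨n, rfl⟩ := mem_zpowers_iff.1 hb
        obtain ⟨m, rfl⟩ := mem_zpowers_iff.1 ha
        exact ((Commute.refl x).zpow_zpow n m).eq
    exact sup_le h1 h2
  have hcc : ∀ a ∈ C, ∀ b ∈ C, a * b = b * a := fun a ha b hb => mem_centralizer_iff.1 (hle hb) a ha
  let D : Subgroup G :=
    { carrier := {c | c ∈ C ∧ c ^ 2 = 1}
      mul_mem' := by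
        rintro a b ⟨ha, ha2⟩ ⟨hb, hb2⟩
        refine ⟨mul_mem ha hb, ?_⟩
        have hab : a * b = b * a := hcc a ha b hb
        rw [pow_two] at ha2 hb2 ⊢
        calc a * b * (a * b) = a * (b * a) * b := by group
          _ = a * (a * b) * b := by rw [hab]
          _ = (a * a) * (b * b) := by group
          _ = 1 := by rw [ha2, hb2, one_mul]
      one_mem' := ⟨one_mem _, one_pow _⟩
      inv_mem' := by
        rintro a ⟨ha, ha2⟩
        refine ⟨inv_mem ha, ?_⟩
        rw [inv_pow, ha2, inv_one] }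
  have hD : C ≤ D := by
    refine sup_le (fun a ha => ⟨le_sup_left (a := A) ha, hA2 a ha⟩) ?_
    rw [zpowers_le]
    exact ⟨le_sup_right (a := A) (mem_zpowers x), hx2⟩
  have hC : IsElementaryAbelian 2 C := isElementaryAbelian_iff.2 ⟨hcc, fun c hc' => (hD hc').2⟩
  have h1 := hA.2.2 C hC (sup_le hA.2.1 (by rwa [zpowers_le]))
  have h2 : A = C := Subgroup.eq_of_le_of_card_ge le_sup_left h1
  have h3 : x ∈ A := by
    rw [h2]
    exact le_sup_right (a := A) (mem_zpowers x)
  exact le_jj hA h3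

theorem zc_le_zj [Finite G] (T : Subgroup G) : zc T ≤ zj T := by
  intro x hx
  rw [mem_zc] at hx
  rw [mem_zj]
  have hc : ∀ y ∈ jj T, y * x = x * y := fun y hy => hx.2.2 y (jj_le T hy)
  exact ⟨mem_jj_of_comm hx.1 hx.2.1 hc, hx.2.1, hc⟩

theorem zj_bau [Finite G] (T : Subgroup G) : zj (bau T) = zj T := zj_congr (jj_bau T)

theorem zc_bau [Finite G] (T : Subgroup G) : zc (bau T) = zj T := by
  apply le_antisymm
  · exact (zc_le_zj _).trans (zj_bau T).le
  · intro x hx
    have h := mem_zj.1 hx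
    rw [mem_zc]
    exact ⟨jj_le_bau T h.1, h.2.1, fun y hy => ((mem_bau.1 hy).2 x hx).symm⟩

/-! ### Conjugation -/

theorem isElementaryAbelian_cj (g : G) {A : Subgroup G} (hA : IsElementaryAbelian 2 A) :
    IsElementaryAbelian 2 (cj g A) := isElementaryAbelian_map hA _

theorem cj_mem_AA (g : G) {A T : Subgroup G} (hA : A ∈ AA T) : cj g A ∈ AA (cj g T) := by
  refine ⟨isElementaryAbelian_cj g hA.1, cj_mono g hA.2.1, fun B hB hBT => ?_⟩
  rw [card_cj, ← card_cj g⁻¹ B]
  refine hA.2.2 _ (isElementaryAbelian_cj _ hB) ?_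
  rw [cj_le_iff, inv_inv]
  exact hBT

theorem mm_cj [Finite G] (g : G) (T : Subgroup G) : mm (cj g T) = mm T := by
  obtain ⟨A, hA⟩ := AA_nonempty T
  rw [mm_eq hA, mm_eq (cj_mem_AA g hA), card_cj]

theorem jj_cj (g : G) (T : Subgroup G) : jj (cj g T) = cj g (jj T) :=
  thompsonSubgroupOf_map_conj 2 g T

theorem zj_cj (g : G) (T : Subgroup G) : zj (cj g T) = cj g (zj T) := by
  ext x
  rw [mem_cj, mem_zj, mem_zj, jj_cj, mem_cj]
  have e2 : (g⁻¹ * x * g) ^ 2 = 1 ↔ x ^ 2 = 1 := by
    have : (g⁻¹ * x * g) ^ 2 = g⁻¹ * x ^ 2 * g := by rw [pow_two, pow_two]; group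
    rw [this]
    constructor
    · intro h
      have : x ^ 2 = g * (g⁻¹ * x ^ 2 * g) * g⁻¹ := by group
      rw [this, h]; group
    · intro h
      rw [h]; group
  rw [e2]
  refine and_congr_right fun _ => and_congr_right fun _ => ?_
  constructor
  · intro h y hy
    have hy' : g * y * g⁻¹ ∈ cj g (jj T) := by
      rw [mem_cj]
      have : g⁻¹ * (g * y * g⁻¹) * g = y := by group
      rwa [this]
    have h1 := h _ hy'
    have e1 : y * (g⁻¹ * x * g) = g⁻¹ * (g * y * g⁻¹ * x) * g := by group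
    have e3 : g⁻¹ * x * g * y = g⁻¹ * (x * (g * y * g⁻¹)) * g := by group
    rw [e1, e3, h1]
  · intro h y hy
    have h1 := h _ (mem_cj.1 hy)
    have e1 : y * x = g * (g⁻¹ * y * g * (g⁻¹ * x * g)) * g⁻¹ := by group
    have e3 : x * y = g * (g⁻¹ * x * g * (g⁻¹ * y * g)) * g⁻¹ := by group
    rw [e1, e3, h1]

theorem bau_cj (g : G) (T : Subgroup G) : bau (cj g T) = cj g (bau T) := by
  rw [bau, bau, zj_cj, cj_inf, cj_centralizer]

theorem normalizer_le_of_cj {F : Subgroup G → Subgroup G} (hF : ∀ g T, F (cj g T) = cj g (F T))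
    (T : Subgroup G) : normalizer (T : Set G) ≤ normalizer ((F T : Subgroup G) : Set G) := by
  intro g hg
  rw [mem_normalizer_iff_cj] at hg ⊢
  rw [← hF, hg]

theorem normalizer_le_jj (T : Subgroup G) :
    normalizer (T : Set G) ≤ normalizer ((jj T : Subgroup G) : Set G) :=
  normalizer_le_of_cj (F := jj) jj_cj T

theorem normalizer_le_bau (T : Subgroup G) :
    normalizer (T : Set G) ≤ normalizer ((bau T : Subgroup G) : Set G) :=
  normalizer_le_of_cj (F := bau) bau_cj T

theorem pCore_cj (g : G) (L : Subgroup G) : o2 (cj g L) = cj g (o2 L) := by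
  -- `L ≃* L^g`
  let e : L ≃* (cj g L : Subgroup G) := L.equivMapOfInjective _ (MulAut.conj g).injective
  have key : ∀ {H K : Type u} [Group H] [Group K] (e : H ≃* K),
      (pCore 2 H).map e.toMonoidHom ≤ pCore 2 K := by
    intro H K _ _ e
    rw [Subgroup.map_le_iff_le_comap]
    refine sSup_le fun N hN => ?_
    rw [← Subgroup.map_le_iff_le_comap]
    refine le_sSup ⟨?_, hN.2.map _⟩
    exact Subgroup.Normal.map hN.1 _ e.surjective
  have h1 : (pCore 2 L).map e.toMonoidHom = pCore 2 (cj g L : Subgroup G) := by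
    refine le_antisymm (key e) ?_
    have h2 := Subgroup.map_mono (f := e.toMonoidHom) (key e.symm)
    have h3 : ((pCore 2 (cj g L : Subgroup G)).map e.symm.toMonoidHom).map e.toMonoidHom =
        pCore 2 (cj g L : Subgroup G) := by
      rw [Subgroup.map_map]
      have : e.toMonoidHom.comp e.symm.toMonoidHom = MonoidHom.id _ := by
        ext x
        simp
      rw [this, Subgroup.map_id]
    rwa [h3] at h2
  change (pCore 2 (cj g L : Subgroup G)).map (cj g L : Subgroup G).subtype =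
    ((pCore 2 L).map L.subtype).map (MulAut.conj g).toMonoidHom
  rw [← h1, Subgroup.map_map, Subgroup.map_map]
  rfl

/-! ### The key -/

/-- The lexicographic key of a 2-subgroup. -/
noncomputable def key (T : Subgroup G) : ℕ ×ₗ ℕ ×ₗ ℕ ×ₗ ℕ :=
  toLex (mm T, toLex (Nat.card (jj T), toLex (Nat.card (bau T), Nat.card T)))

theorem key_cj [Finite G] (g : G) (T : Subgroup G) : key (cj g T) = key T := by
  rw [key, key, mm_cj, jj_cj, bau_cj, card_cj, card_cj, card_cj]

/-- The first use of the key. -/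
theorem of_key_le [Finite G] {T U : Subgroup G} (h : bau T ≤ U) (hk : key U ≤ key T) :
    mm U = mm T ∧ jj U = jj T ∧ bau U = bau T ∧ Nat.card U ≤ Nat.card T := by
  have h1 : mm T ≤ mm U := by
    rw [← mm_bau T]
    exact mm_mono h
  have hk' : mm U < mm T ∨ mm U = mm T ∧ (Nat.card (jj U) < Nat.card (jj T) ∨
      Nat.card (jj U) = Nat.card (jj T) ∧ (Nat.card (bau U) < Nat.card (bau T) ∨
        Nat.card (bau U) = Nat.card (bau T) ∧ Nat.card U ≤ Nat.card T)) := by
    rw [key, key, Prod.Lex.toLex_le_toLex] at hk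
    simpa only [Prod.Lex.toLex_le_toLex] using hk
  rcases hk' with hk | ⟨hm, hk⟩
  · exact absurd hk (not_lt.2 h1)
  have h2 : jj T ≤ jj U := by
    rw [← jj_bau T]
    exact jj_mono h (by rw [mm_bau, hm])
  rcases hk with hk | ⟨hj, hk⟩
  · exact absurd hk (not_lt.2 (Subgroup.card_le_of_le h2))
  have hjj : jj U = jj T := (Subgroup.eq_of_le_of_card_ge h2 hj.le).symm
  have h3 : bau T ≤ bau U := by
    intro x hx
    rw [mem_bau]
    refine ⟨h hx, fun y hy => ?_⟩
    rw [zj_congr hjj] at hy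
    exact (mem_bau.1 hx).2 y hy
  rcases hk with hk | ⟨hb, hk⟩
  · exact absurd hk (not_lt.2 (Subgroup.card_le_of_le h3))
  exact ⟨hm, hjj, (Subgroup.eq_of_le_of_card_ge h3 hb.le).symm, hk⟩

theorem eq_of_key_le [Finite G] {T U : Subgroup G} (h : T ≤ U) (hk : key U ≤ key T) : T = U :=
  Subgroup.eq_of_le_of_card_ge h (of_key_le ((bau_le T).trans h) hk).2.2.2

theorem key_mono [Finite G] {T U : Subgroup G} (h : T ≤ U) : key T ≤ key U := by
  by_contra hc
  have h1 := (not_le.1 hc).le
  have := eq_of_key_le h h1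
  rw [this] at hc
  exact hc le_rfl

end Cfsg.Agent.ZN.ChoiceBase
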